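import Cfsg.Agent.H34.Push.Defs
import Cfsg.Agent.H51.SubnormalBlockTools

/-!
A block relative to `B(T)` lies in one member of a family of commuting blocks generating with `T`.
-/

set_option autoImplicit false
set_option linter.unusedSectionVars false

open scoped commutatorElement

namespace Cfsg.Agent.H54.Push

open Subgroup
open Cfsg.Agent.H34.Push

universe u

variable {G : Type u} [Group G] [Finite G] {p : ℕ} [hp : Fact p.Prime]

/-- An elementary abelian invariant subgroup of `O_p(E)` lies in `Ω₁(Z(O_p(E)))`. -/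
theorem le_omega_of_elementary {T E U : Subgroup G} (hE : Cfsg.IsBaumannBlock p T E)
    (hU : Cfsg.IsElementaryAbelian p U) (hUQ : U ≤ Cfsg.pCoreOf p E) (hEU : E ≤ normalizer (U : Set G)) :
    U ≤ Cfsg.omegaOneCenter p (Cfsg.pCoreOf p E) := by
  set Q := Cfsg.pCoreOf p E with hQ
  set W := Cfsg.omegaOneCenter p Q with hW
  have hWQ : W ≤ Q := H51.omega_le_core E
  have hEUW : E ≤ normalizer ((U ⊔ W : Subgroup G) : Set G) := fun e he =>
    mem_normalizer_iff_map_conj_eq.mpr ((Subgroup.map_sup _ _ _).trans (congrArg₂ (· ⊔ ·)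
      (mem_normalizer_iff_map_conj_eq.mp (hEU he))
      (mem_normalizer_iff_map_conj_eq.mp
        (H51.normalizer_le_normalizer_omegaCore E (le_normalizer he)))))
  rcases H51.block_top_irreducible hE (U ⊔ W) le_sup_right (sup_le hUQ hWQ) hEUW with h | h
  · exact le_sup_left.trans h.le
  · have hc : U ⊔ W ≤ centralizer (U : Set G) := by
      refine sup_le ?_ (le_centralizer_iff.mp ?_)
      · haveI := hU.1
        exact le_centralizer_iff_isMulCommutative.mpr inferInstance
      · exact hUQ.trans (H51.core_le_centralizer_omega E)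
    rw [h] at hc
    exact fun x hx => H34.mem_omegaOne ⟨hUQ hx, le_centralizer_iff.mp hc hx⟩ (hU.2 x hx)

/-- Two invariant steps: if `[A, E]` meets `W/Z` nontrivially, it contains `[W, E]`. -/
theorem fixes_or_module_le {T E A : Subgroup G} (hE : Cfsg.IsBaumannBlock p T E)
    (hA : Cfsg.IsElementaryAbelian p A) (hEA : E ≤ normalizer (A : Set G))
    (hAQ : ⁅A, E⁆ ≤ Cfsg.pCoreOf p E) :
    E ≤ centralizer (A : Set G) ∨ ⁅Cfsg.omegaOneCenter p (Cfsg.pCoreOf p E), E⁆ ≤ A := by
  set W := Cfsg.omegaOneCenter p (Cfsg.pCoreOf p E) with hW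
  set Z := W ⊓ centralizer (E : Set G) with hZ
  set U := ⁅A, E⁆ with hU
  have hUA : U ≤ A := H51.commutator_le_of_le_normalizer hEA
  have hEU : E ≤ normalizer (U : Set G) := normalizer_commutator_ge_right A E
  have hUW : U ≤ W := le_omega_of_elementary hE (H34.isElementaryAbelian_mono hA hUA) hAQ hEU
  have hEUZ : E ≤ normalizer ((U ⊔ Z : Subgroup G) : Set G) := fun e he =>
    mem_normalizer_iff_map_conj_eq.mpr ((Subgroup.map_sup _ _ _).trans (congrArg₂ (· ⊔ ·)
      (mem_normalizer_iff_map_conj_eq.mp (hEU he))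
      (mem_normalizer_iff_map_conj_eq.mp
        (H51.normalizer_le_normalizer_omegaCore_fixed E (le_normalizer he)))))
  rcases (H51.block_irreducible hE).2 (U ⊔ Z) (sup_le hUW inf_le_left) le_sup_right hEUZ with h | h
  · refine Or.inl (H51.centralizes_of_residual hE.1 (H34.IsPGroup_of_isElementaryAbelian hA) hEA ?_)
    exact commutator_eq_bot_iff_le_centralizer.mpr ((le_sup_left.trans h.le).trans inf_le_right)
  · refine Or.inr (le_trans (commutator_le.mpr fun a ha e he => ?_) hUA)
    rw [show W = U ⊔ Z from h.symm, ← SetLike.mem_coe, coe_mul_of_left_le_normalizer_right _ _ ?_] at ha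
    · obtain ⟨u, hu, z, hz, rfl⟩ := ha
      have hze : e * z * e⁻¹ = z := by
        rw [show e * z = z * e from mem_centralizer_iff.mp hz.2 e he, mul_inv_cancel_right]
      have hu' : ⁅u, e⁆ ∈ U :=
        H51.commutator_le_of_le_normalizer hEU (commutator_mem_commutator hu he)
      convert hu' using 1
      rw [commutatorElement_def, commutatorElement_def]
      calc u * z * e * (u * z)⁻¹ * e⁻¹ = u * (z * (e * z⁻¹ * e⁻¹)) * (e * u⁻¹ * e⁻¹) := by group
        _ = u * e * u⁻¹ * e⁻¹ := by
          rw [show e * z⁻¹ * e⁻¹ = z⁻¹ by rw [← conj_inv, hze]]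
          group
    · haveI := (H51.omegaOneCenter_isElementaryAbelian (p := p) (Cfsg.pCoreOf p E)).1
      refine le_trans ?_ (centralizer_le_normalizer _)
      exact (hUW.trans (le_centralizer_iff_isMulCommutative.mpr inferInstance)).trans
        (centralizer_le inf_le_left)

/-- A block relative to `B(T)` which does not lie in `C*(G,T)` lies in a member of the family. -/
theorem foreign_block {T : Sylow p G} {M : Subgroup G} {r₀ : ℕ} {E : Fin r₀ → Subgroup G}
    (hc : Ctx T M) (_co : Core T E) (hQ : cee p G = Cfsg.pCore p G) {r : ℕ} {Bk : Fin r → Subgroup G}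
    (hB : Family T Bk) (F : Subgroup G) (hF : Cfsg.IsBaumannBlock p (T : Subgroup G) F)
    (_hne : ¬ F ≤ Cfsg.cStarOf p (T : Subgroup G)) : ∃ i, F ≤ Bk i := by
  classical
  haveI : (ell p (T : Subgroup G)).Normal := normalClosure_normal
  have hsub : ∀ i, H51.IsSubnormalBlock p (Bk i) := fun i =>
    ⟨⟨T, hB.block i⟩, .step _ _ (hB.le_L i) (Normal.isSubnormal inferInstance)
      ((normal_subgroupOf_iff_le_normalizer (hB.le_L i)).mpr (hB.norm i))⟩
  set N := ⨆ i, Bk i with hNdef
  let V : Fin r → Subgroup G := fun i => ⁅Cfsg.omegaOneCenter p (Cfsg.pCoreOf p (Bk i)), Bk i⁆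
  have hVB : ∀ i, V i ≤ Bk i := fun i =>
    (H51.commutator_le_of_le_normalizer
      (le_normalizer.trans (H51.normalizer_le_normalizer_omegaCore (Bk i)))).trans
      ((H51.omega_le_core _).trans (H74.pCoreOf_le _))
  have hVV : ∀ i, V i ≤ vee p G := fun i => (hsub i).module_le hc.charp
  have hVel : ∀ i, Cfsg.IsElementaryAbelian p (V i) := fun i =>
    H34.isElementaryAbelian_mono (H51.omegaOneCenter_isElementaryAbelian (Cfsg.pCore p G)) (hVV i)
  have hNL : N ≤ ell p (T : Subgroup G) := iSup_le hB.le_L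
  have hNV : ∀ i, N ≤ normalizer (V i : Set G) := fun i =>
    (hNL.trans (hB.norm i)).trans (H51.normalizer_le_normalizer_module _)
  have hcent : ∀ i j, i ≠ j → Bk i ≤ centralizer (V j : Set G) := fun i j hij =>
    (commutator_eq_bot_iff_le_centralizer.mp (hB.comm i j hij)).trans (centralizer_le (hVB j))
  set D := ⨆ i, V i with hDdef
  have hND : N ≤ normalizer (D : Set G) := fun x hx => mem_normalizer_iff_map_conj_eq.mpr
    ((Subgroup.map_iSup _ _).trans (iSup_congr fun i => mem_normalizer_iff_map_conj_eq.mp (hNV i hx)))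
  -- `[V, N] ≤ D`
  have hVN : ∀ x ∈ N, x ∈ N ∧ ∀ v ∈ vee p G, ⁅v, x⁆ ∈ D := by
    intro x hx
    refine Subgroup.iSup_induction Bk (C := fun x => x ∈ N ∧ ∀ v ∈ vee p G, ⁅v, x⁆ ∈ D) hx
      (fun i b hb => ⟨le_iSup Bk i hb, fun v hv =>
        le_iSup V i ((hsub i).omega_comm hc.charp hv hb)⟩)
      ⟨one_mem _, fun v _ => by simp⟩ ?_
    rintro g h ⟨hg1, hg2⟩ ⟨hh1, hh2⟩
    refine ⟨mul_mem hg1 hh1, fun v hv => ?_⟩
    rw [show ⁅v, g * h⁆ = ⁅v, g⁆ * (g * ⁅v, h⁆ * g⁻¹) from by simp only [commutatorElement_def]; group]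
    exact mul_mem (hg2 v hv) ((mem_normalizer_iff.mp (hND hg1) _).mp (hh2 v hv))
  -- faithfulness on `V`
  have hfix : ∀ y ∈ N, (orderOf y).Coprime p →
      (∀ i, y ∈ centralizer (V i : Set G)) → y = 1 := by
    intro y hy hcop hfix
    have hDy : D ≤ centralizer ({y} : Set G) := iSup_le fun i v hv =>
      mem_centralizer_singleton_iff.mpr (mem_centralizer_iff.mp (hfix i) v hv)
    have hDp : IsPGroup p D := (H51.pCore_isPGroup p G).to_le
      ((iSup_le hVV).trans (by exact (H34.omegaOne_le _).trans inf_le_left))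
    have hyC : y ∈ cee p G := by
      refine mem_centralizer_iff.mpr fun v hv => ?_
      have h1 : y * v * y⁻¹ = v := by
        refine H51.fixed_of_two_step hcop hDp ?_ fun d hd => ?_
        · rw [show y * v * y⁻¹ * v⁻¹ = ⁅v, y⁆⁻¹ from by simp only [commutatorElement_def]; group]
          exact inv_mem ((hVN y hy).2 v hv)
        · rw [← mem_centralizer_singleton_iff.mp (hDy hd), mul_inv_cancel_right]
      exact (eq_mul_inv_iff_mul_eq.mp h1.symm)
    rw [hQ] at hyC
    obtain ⟨k, hk⟩ := H51.pCore_isPGroup p G ⟨y, hyC⟩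
    have hk' : y ^ p ^ k = 1 := congrArg Subtype.val hk
    rw [← orderOf_eq_one_iff]
    exact Nat.eq_one_of_dvd_coprimes (hcop.pow_right k) dvd_rfl (orderOf_dvd_of_pow_eq_one hk')
  -- `F ≤ N`
  have hTN : (T : Subgroup G) ≤ normalizer (N : Set G) := fun t ht => by
    refine H74.mem_normalizer_of_conj_mem fun x hx => ?_
    have h1 : N.map (MulAut.conj t).toMonoidHom ≤ N := by
      rw [hNdef, Subgroup.map_iSup]
      refine iSup_le fun i => ?_
      obtain ⟨j, hj⟩ := hB.perm t ht i
      exact hj.le.trans (le_iSup Bk j)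
    exact h1 ⟨x, hx, rfl⟩
  have hFN : F ≤ N := by
    refine (H51.eq_closure_of_residual hF.1).le.trans ((closure_le _).mpr fun y ⟨_, hy⟩ => ?_)
    exact H51.mem_of_coprime_mem_sup_pgroup hTN T.isPGroup' (hB.gen.ge (mem_top y)) hy
  obtain ⟨hcoreF, hcommF⟩ := H51.pCore_normalizes_block T hF
  have hstep : ∀ i, F ≤ centralizer (V i : Set G) ∨
      ⁅Cfsg.omegaOneCenter p (Cfsg.pCoreOf p F), F⁆ ≤ V i := fun i => by
    refine fixes_or_module_le hF (hVel i) (hFN.trans (hNV i)) ?_
    rw [commutator_comm]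
    exact (commutator_mono le_rfl ((hVV i).trans ((H34.omegaOne_le _).trans inf_le_left))).trans hcommF
  by_cases hall : ∀ i, F ≤ centralizer (V i : Set G)
  · refine absurd ?_ (H51.block_not_isPGroup hF)
    have : F = ⊥ := le_bot_iff.mp ((H51.eq_closure_of_residual hF.1).le.trans
      ((closure_le _).mpr fun y ⟨hy, hcop⟩ => mem_bot.mpr (hfix y (hFN hy) hcop fun i => hall i hy)))
    rw [this]
    exact IsPGroup.of_bot
  push Not at hall
  obtain ⟨i, hi⟩ := hall
  refine ⟨i, ?_⟩
  -- every other module is fixed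
  have hoth : ∀ j, j ≠ i → F ≤ centralizer (V j : Set G) := by
    intro j hj
    by_contra hjF
    set W := Cfsg.omegaOneCenter p (Cfsg.pCoreOf p F) with hW
    have hi' := (hstep i).resolve_left hi
    have hj' := (hstep j).resolve_left hjF
    have hN0 : N ≤ centralizer ((⁅W, F⁆ : Subgroup G) : Set G) := iSup_le fun k => by
      by_cases hk : k = i
      · exact (hk ▸ hcent i j (Ne.symm hj)).trans (centralizer_le hj')
      · exact (hcent k i hk).trans (centralizer_le hi')
    have h0 : ⁅⁅W, F⁆, F⁆ = ⊥ :=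
      commutator_eq_bot_iff_le_centralizer.mpr (le_centralizer_iff.mp (hFN.trans hN0))
    refine (H51.block_irreducible hF).1 (le_centralizer_iff.mp ?_)
    exact H51.centralizes_of_residual hF.1
      (H34.IsPGroup_of_isElementaryAbelian (H51.omegaOneCenter_isElementaryAbelian _))
      (le_normalizer.trans (H51.normalizer_le_normalizer_omegaCore F)) h0
  refine (H51.eq_closure_of_residual hF.1).le.trans ((closure_le _).mpr fun y ⟨hy, hcop⟩ => ?_)
  -- split `y` along `N = Bk i * C`
  set C := ⨆ j ∈ {j | j ≠ i}, Bk j with hCdef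
  have hCB : C ≤ centralizer (Bk i : Set G) :=
    iSup₂_le fun j hj => commutator_eq_bot_iff_le_centralizer.mp (hB.comm j i hj)
  have hCN : C ≤ N := iSup₂_le fun j _ => le_iSup Bk j
  have hN2 : N ≤ Bk i ⊔ C := iSup_le fun j => by
    by_cases hj : j = i
    · exact hj ▸ le_sup_left
    · exact le_sup_of_le_right (le_iSup₂ (f := fun j (_ : j ∈ {j | j ≠ i}) => Bk j) j hj)
  have hy' : y ∈ Bk i ⊔ C := hN2 (hFN hy)
  rw [← SetLike.mem_coe, coe_mul_of_right_le_normalizer_left _ _
    (hCB.trans (centralizer_le_normalizer _))] at hy'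
  obtain ⟨b, hb, c, hcC, hbc⟩ := hy'
  have hbc : b * c = y := hbc
  have hcfix : ∀ j, c ∈ centralizer (V j : Set G) := fun j => by
    by_cases hj : j = i
    · subst hj; exact centralizer_le (hVB j) (hCB hcC)
    · have : c = b⁻¹ * y := by rw [← hbc, inv_mul_cancel_left]
      rw [this]
      exact mul_mem (inv_mem (hcent i j (Ne.symm hj) hb)) (hoth j hj hy)
  obtain ⟨a, ha⟩ := H51.exists_coprime_pow (p := p) c
  have hc1 : c ^ p ^ a = 1 :=
    hfix _ (pow_mem (hCN hcC) _) ha fun j => pow_mem (hcfix j) _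
  have hcomm : Commute b c := mem_centralizer_iff.mp (hCB hcC) b hb
  have hya : y ^ p ^ a ∈ Bk i := by
    rw [← hbc, hcomm.mul_pow, hc1, mul_one]
    exact pow_mem hb _
  obtain ⟨m, hm⟩ := exists_pow_eq_self_of_coprime (x := y) (hcop.symm.pow_left a)
  rw [← hm]
  exact pow_mem hya m

end Cfsg.Agent.H54.Push
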