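import Mathlib

/-!
Facts about symmetric and alternating groups used for the symmetric blocks of pushing up.
-/

set_option autoImplicit false
set_option linter.unusedSectionVars false

namespace Cfsg.Agent.H54.Push

open Equiv

variable {m : ℕ}

/-- A group containing one swap at each point, transitive away from `f` and moving `f`, is symmetric. -/
theorem eq_top_of_swaps {H : Subgroup (Perm (Fin m))} {σ : Fin m → Fin m} {f : Fin m}
    (hσ : ∀ a, a ≠ f → σ a ≠ a) (hsw : ∀ a, a ≠ f → swap a (σ a) ∈ H)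
    (htr : ∀ a b, a ≠ f → b ≠ f → ∃ t ∈ H, t f = f ∧ t a = b) {h : Perm (Fin m)} (hh : h ∈ H)
    (hf : h f ≠ f) : H = ⊤ := by
  obtain ⟨a, ha⟩ := h.surjective f
  have haf : a ≠ f := fun e => hf (by rw [← e]; exact ha.trans e.symm)
  have hb : h (σ a) ≠ f := fun e => hσ a haf (h.injective (e.trans ha.symm))
  have h1 : swap f (h (σ a)) ∈ H := by
    rw [← ha, swap_apply_apply]
    exact H.mul_mem (H.mul_mem hh (hsw a haf)) (H.inv_mem hh)
  have hall : ∀ c, swap f c ∈ H := fun c => by
    by_cases hc : c = f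
    · rw [hc, swap_self]; exact H.one_mem
    · obtain ⟨t, ht, htf, htb⟩ := htr _ c hb hc
      rw [← htb]
      nth_rw 1 [← htf]
      rw [swap_apply_apply]
      exact H.mul_mem (H.mul_mem ht h1) (H.inv_mem ht)
  rw [eq_top_iff, ← Perm.closure_isSwap, Subgroup.closure_le]
  rintro _ ⟨x, y, hxy, rfl⟩
  by_cases hx : x = f
  · rw [hx]; exact hall y
  by_cases hy : y = f
  · rw [hy, swap_comm]; exact hall x
  have e : swap x y = swap f x * swap f y * (swap f x)⁻¹ := by
    rw [← swap_apply_apply, swap_apply_left, swap_apply_of_ne_of_ne hy (Ne.symm hxy)]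
  rw [e]
  exact H.mul_mem (H.mul_mem (hall x) (hall y)) (H.inv_mem (hall x))

/-- A subgroup normalised by the stabiliser of `f` with a swap in that stabiliser contains it. -/
theorem fixing_mem {H : Subgroup (Perm (Fin m))} {f c d : Fin m}
    (hnorm : ∀ g : Perm (Fin m), g f = f → ∀ x ∈ H, g * x * g⁻¹ ∈ H) (hcd : c ≠ d) (hc : c ≠ f) (hd : d ≠ f)
    (hsw : swap c d ∈ H) {π : Perm (Fin m)} (hπ : π f = f) : π ∈ H := by
  classical
  have hall : ∀ a b, a ≠ b → a ≠ f → b ≠ f → swap a b ∈ H := by
    intro a b hab ha hb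
    set g₁ := swap c a with hg₁
    have hg₁f : g₁ f = f := swap_apply_of_ne_of_ne (Ne.symm hc) (Ne.symm ha)
    have hd' : g₁ d ≠ a := fun e => hcd (g₁.injective ((swap_apply_left c a).trans e.symm))
    have hd'f : g₁ d ≠ f := fun e => hd (g₁.injective (e.trans hg₁f.symm))
    have h1 : swap a (g₁ d) ∈ H := by
      have := hnorm g₁ hg₁f _ hsw
      rwa [← swap_apply_apply, show g₁ c = a from swap_apply_left c a] at this
    have hg₂f : swap (g₁ d) b f = f := swap_apply_of_ne_of_ne (Ne.symm hd'f) (Ne.symm hb)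
    have := hnorm _ hg₂f _ h1
    rwa [← swap_apply_apply, swap_apply_of_ne_of_ne (Ne.symm hd') hab, swap_apply_left] at this
  have hp : ∀ x, π x ≠ f ↔ x ≠ f := fun x => by
    constructor
    · exact fun h e => h (by rw [e, hπ])
    · exact fun h e => h (π.injective (e.trans hπ.symm))
  rw [← Perm.ofSubtype_subtypePerm (p := fun x => x ≠ f) hp (fun x hx e => hx (by rw [e, hπ]))]
  have hle : (⊤ : Subgroup (Perm {x // x ≠ f})) ≤ H.comap Perm.ofSubtype := by
    rw [← Perm.closure_isSwap, Subgroup.closure_le]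
    rintro _ ⟨a, b, hab, rfl⟩
    show Perm.ofSubtype (swap a b) ∈ H
    rw [Perm.ofSubtype_swap_eq]
    exact hall a b (fun e => hab (Subtype.ext e)) a.2 b.2
  exact hle (Subgroup.mem_top _)

/-- The stabiliser of a point in an alternating group is alternating of one degree less. -/
theorem stab_alt_equiv {k : ℕ} (hk : k + 1 = m) (f : Fin m) {R : Subgroup (Perm (Fin m))}
    (hR : ∀ π, π ∈ R ↔ Perm.sign π = 1 ∧ π f = f) :
    Nonempty (↥R ≃* ↥(alternatingGroup (Fin k))) := by
  classical
  have hcard : Fintype.card {x : Fin m // x ≠ f} = k := by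
    simp [Fintype.card_subtype_compl, ← hk]
  let e : Fin k ≃ {x : Fin m // x ≠ f} := (Fintype.equivFinOfCardEq hcard).symm
  let Θ : Perm (Fin k) →* Perm (Fin m) := Perm.ofSubtype.comp e.permCongrHom.toMonoidHom
  have hinj : Function.Injective Θ := Perm.ofSubtype_injective.comp e.permCongrHom.injective
  have hsign : ∀ g, Perm.sign (Θ g) = Perm.sign g := fun g =>
    (Perm.sign_ofSubtype _).trans (Perm.sign_permCongr e g)
  have hmap : (alternatingGroup (Fin k)).map Θ = R := by
    ext π
    rw [hR]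
    constructor
    · rintro ⟨g, hg, rfl⟩
      exact ⟨(hsign g).trans hg, Perm.ofSubtype_apply_of_not_mem _ (by simp)⟩
    · rintro ⟨hs, hf⟩
      have hp : ∀ x, π x ≠ f ↔ x ≠ f := fun x => by
        constructor
        · exact fun h e => h (by rw [e, hf])
        · exact fun h e => h (π.injective (e.trans hf.symm))
      have hπ : Θ (e.permCongrHom.symm (π.subtypePerm hp)) = π := by
        show Perm.ofSubtype (e.permCongrHom (e.permCongrHom.symm (π.subtypePerm hp))) = π
        rw [MulEquiv.apply_symm_apply]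
        exact Perm.ofSubtype_subtypePerm hp (fun x hx he => hx (by rw [he, hf]))
      refine ⟨_, ?_, hπ⟩
      show Perm.sign _ = 1
      rw [← hsign, hπ]; exact hs
  exact ⟨((Subgroup.equivMapOfInjective _ Θ hinj).trans (MulEquiv.subgroupCongr hmap)).symm⟩

/-- Alternating groups of degree `2^n + 1` are simple and not `2`-groups. -/
theorem alt_simple {n : ℕ} (hn : 1 ≤ n) (hm : m = 2 ^ n + 1) :
    IsSimpleGroup (alternatingGroup (Fin m)) ∧ ¬ IsPGroup 2 (alternatingGroup (Fin m)) := by
  have h3 : 3 ≤ m := by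
    have : 2 ^ 1 ≤ 2 ^ n := Nat.pow_le_pow_right (by omega) hn
    omega
  haveI : Nontrivial (Fin m) := Fin.nontrivial_iff_two_le.2 (by omega)
  have hc : 2 * Nat.card (alternatingGroup (Fin m)) = m.factorial := by
    rw [two_mul_nat_card_alternatingGroup, Nat.card_perm, Nat.card_fin]
  refine ⟨?_, fun hp => ?_⟩
  · rcases Nat.eq_or_lt_of_le hn with h1 | h2
    · haveI : Fact (Nat.Prime 3) := ⟨Nat.prime_three⟩
      refine isSimpleGroup_of_prime_card (p := 3) ?_
      rw [hm, ← h1] at hc
      rw [hm, ← h1]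
      simp only [pow_one, Nat.factorial] at hc ⊢
      omega
    · refine alternatingGroup.isSimpleGroup ?_
      have : 2 ^ 2 ≤ 2 ^ n := Nat.pow_le_pow_right (by omega) h2
      rw [Nat.card_fin]; omega
  · obtain ⟨k, hk⟩ := hp.exists_card_eq
    have h : 3 ∣ 2 ^ (k + 1) := by
      rw [pow_succ', ← hk, hc]
      exact Nat.dvd_factorial (by omega) h3
    exact absurd (Nat.prime_three.dvd_of_dvd_pow h) (by omega)

/-- The degree of an odd alternating group is determined. -/
theorem alt_degree {k n : ℕ} (hn : 1 ≤ n) (hm : m = 2 ^ n + 1)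
    (e : ↥(alternatingGroup (Fin m)) ≃* ↥(alternatingGroup (Fin (2 * k + 1)))) : 2 * k + 1 = m := by
  have h3 : 3 ≤ m := by
    have : 2 ^ 1 ≤ 2 ^ n := Nat.pow_le_pow_right (by omega) hn
    omega
  haveI : Nontrivial (Fin m) := Fin.nontrivial_iff_two_le.2 (by omega)
  rcases Nat.eq_zero_or_pos k with rfl | hk
  · exfalso
    refine (alt_simple hn hm).2 ?_
    intro g
    refine ⟨0, ?_⟩
    have h1 : e g = 1 := Subtype.ext (Equiv.ext fun i => Fin.ext (by omega))
    rw [pow_zero, pow_one, ← e.map_eq_one_iff, h1]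
  · haveI : Nontrivial (Fin (2 * k + 1)) := Fin.nontrivial_iff_two_le.2 (by omega)
    have h := congrArg (2 * ·) (Nat.card_congr e.toEquiv)
    simp only [two_mul_nat_card_alternatingGroup, Nat.card_perm, Nat.card_fin] at h
    exact ((Nat.factorial_inj (by omega)).1 h).symm

end Cfsg.Agent.H54.Push
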