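import Cfsg.Agent.H34.Push.Basic
import Cfsg.Agent.H51.BlockModule
import Cfsg.Agent.H54.Push.SymPerm

/-!
`C*(G,T)` in the symmetric case: it meets each block in the stabiliser of the fixed point.
-/

set_option autoImplicit false
set_option linter.unusedSectionVars false
set_option maxHeartbeats 800000

open scoped commutatorElement

namespace Cfsg.Agent.H54.Push

open Subgroup
open Cfsg.Agent.H34.Push

universe u

variable {G : Type u} [Group G] [Finite G] {p : ℕ} [Fact p.Prime] {T : Sylow p G} {M : Subgroup G}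
  {E : Subgroup G} {m : ℕ} {ρ : ↥E →* Equiv.Perm (Fin m)}
  {ψ : ↥⁅vee p G, E⁆ →* Multiplicative (Fin m → ZMod 2)} {σ : Equiv.Perm (Fin m)} {f : Fin m}

theorem vee_comm_le (X : Subgroup G) : ⁅vee p G, X⁆ ≤ vee p G := by
  haveI := vee_normal (G := G) (p := p)
  exact commutator_le_left _ _

theorem omegaT_le_vee (hc : Ctx T M) : Cfsg.omegaOneCenter p (T : Subgroup G) ≤ vee p G := by
  intro z hz
  have hzC : z ∈ centralizer (Cfsg.pCore p G : Set G) :=
    centralizer_le (SetLike.coe_subset_coe.2 (Cfsg.Agent.H72.pCore_le_sylow T))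
      ((H34.omegaOne_le _).trans inf_le_right hz)
  exact H34.mem_omegaOne ⟨hc.charp hzC, hzC⟩
    ((H51.omegaOneCenter_isElementaryAbelian (p := p) (T : Subgroup G)).2 z hz)

/-- Outside the stabiliser of `f` only a full component can lie in `M`. -/
theorem le_max_of_moves (hc : Ctx T M) (hr : SymRep p E ρ ψ) (hl : SymLeaves T E ρ σ f) {e : ↥E}
    (he : (e : G) ∈ M) (hf : ρ e f ≠ f) : E ≤ M := by
  set H := (M.subgroupOf E).map ρ with hH
  have hTH : ∀ t : ↥E, (t : G) ∈ (T : Subgroup G) → ρ t ∈ H := fun t ht => ⟨t, hc.hTM ht, rfl⟩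
  have htop : H = ⊤ := by
    refine eq_top_of_swaps (σ := σ) (f := f) (fun a ha h => ha ((hl.fixed a).1 h)) (fun a ha => ?_)
      (fun a b ha hb => ?_) ⟨e, he, rfl⟩ hf
    · obtain ⟨y, hy, -, hρ⟩ := hl.lift a ha
      exact hρ ▸ hTH y (inf_le_left (b := centralizer _) hy)
    · obtain ⟨t, ht, htab⟩ := hl.trans a b ha hb
      exact ⟨ρ t, hTH t ht, hl.sylow t ht, htab⟩
  intro x hx
  obtain ⟨k, hk, hkx⟩ : ρ ⟨x, hx⟩ ∈ H := by rw [htop]; exact mem_top _
  have h1 : ρ (k⁻¹ * ⟨x, hx⟩) = 1 := by rw [map_mul, map_inv, hkx, inv_mul_cancel]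
  have h2 : (k : G)⁻¹ * x ∈ M := hc.cee_le (by simpa using (hr.ker _).1 h1)
  simpa using M.mul_mem hk h2

/-- The projection of an element of `M` to a component fixes `f`. -/
theorem proj_fix (hc : Ctx T M) (hr : SymRep p E ρ ψ) (hl : SymLeaves T E ρ σ f) (hEM : ¬ E ≤ M)
    (hCE : cee p G ≤ E) (e : ↥E) {y : G} (hy : ∀ k ∈ E, ⁅y, k⁆ ∈ cee p G) (hey : (e : G) * y ∈ M) :
    ρ e f = f := by
  by_contra hf
  obtain ⟨a, ha⟩ := (ρ e).surjective f
  have haf : a ≠ f := fun h => hf (by rw [← h]; exact ha.trans h.symm)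
  obtain ⟨k, hk, -, hρ⟩ := hl.lift a haf
  have hkM : (k : G) ∈ M := hc.hTM (inf_le_left (b := centralizer _) hk)
  let c : ↥E := ⟨⁅y, (k : G)⁆, hCE (hy k k.2)⟩
  have hx : ((e * (c * k) * e⁻¹ : ↥E) : G) ∈ M := by
    have h1 : ((e * (c * k) * e⁻¹ : ↥E) : G) = (e * y) * k * ((e : G) * y)⁻¹ := by
      show (e : G) * (⁅y, (k : G)⁆ * k) * (e : G)⁻¹ = _
      rw [commutatorElement_def]; group
    rw [h1]
    exact M.mul_mem (M.mul_mem hey hkM) (M.inv_mem hey)
  refine hEM (le_max_of_moves hc hr hl hx ?_)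
  rw [map_mul, map_mul, map_mul, map_inv, (hr.ker c).2 (hy k k.2), one_mul, hρ, ← Equiv.swap_apply_apply, ha,
    Equiv.swap_apply_left]
  exact fun h => haf (((hl.fixed a).1 ((ρ e).injective (h.trans ha.symm))))

/-- The stabiliser of `f` centralises `Ω₁(Z(T))`. -/
theorem fix_centralizes (hc : Ctx T M) (hm : ∃ a : Fin m, a ≠ f) (hr : SymRep p E ρ ψ)
    (hl : SymLeaves T E ρ σ f) (hdec : vee p G ≤ (vee p G ⊓ centralizer (E : Set G)) ⊔ ⁅vee p G, E⁆)
    {e : ↥E} (he : ρ e f = f) : (e : G) ∈ centralizer (Cfsg.omegaOneCenter p (T : Subgroup G) : Set G) := by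
  refine mem_centralizer_iff.2 fun z hz => ?_
  have hzV := omegaT_le_vee hc hz
  haveI := (vee_elementary (G := G) (p := p)).1
  have hVc : vee p G ≤ centralizer (vee p G : Set G) := le_centralizer_iff_isMulCommutative.2 inferInstance
  have h0 := hdec hzV
  rw [← SetLike.mem_coe, coe_mul_of_left_le_normalizer_right _ _
    (inf_le_left.trans (hVc.trans ((centralizer_le (SetLike.coe_subset_coe.2 (vee_comm_le E))).trans
      (centralizer_le_normalizer _))))] at h0
  obtain ⟨z', hz', u, hu, rfl⟩ := h0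
  have hfix : ∀ k : ↥E, (k : G) * z' * (k : G)⁻¹ = z' := fun k => by
    rw [show (k : G) * z' = z' * k from mem_centralizer_iff.1 hz'.2 k k.2, mul_inv_cancel_right]
  have hcomm : ∀ k : ↥E, (k : G) * u * (k : G)⁻¹ ∈ ⁅vee p G, E⁆ := fun k =>
    (mem_normalizer_iff.1 (normalizer_commutator_ge_right _ _ k.2) u).1 hu
  -- the coordinates of `u` away from `f` are equal
  have hconst : ∀ a b, a ≠ f → b ≠ f →
      Multiplicative.toAdd (ψ ⟨u, hu⟩) b = Multiplicative.toAdd (ψ ⟨u, hu⟩) a := by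
    intro a b ha hb
    obtain ⟨t, ht, htab⟩ := hl.trans a b ha hb
    have h1 : (t : G) * (z' * u) = z' * u * t :=
      mem_centralizer_iff.1 (Ctx.T_le_cent_omega ht) (z' * u) hz |>.symm
    have h2 : (t : G) * u * (t : G)⁻¹ = u := by
      have h3 : (t : G) * (z' * u) * (t : G)⁻¹ = z' * u := by rw [h1, mul_inv_cancel_right]
      rw [show (t : G) * (z' * u) * (t : G)⁻¹ = ((t : G) * z' * (t : G)⁻¹) * ((t : G) * u * (t : G)⁻¹) by group,
        hfix t] at h3
      exact mul_left_cancel h3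
    have := hr.act t ⟨u, hu⟩ ⟨u, hu⟩ h2.symm b
    rw [this, ← htab, Equiv.Perm.inv_def, Equiv.symm_apply_apply]
  -- so the stabiliser moves `u` only into the centraliser of `E`
  have hd : ∀ k : ↥E, ρ k f = f → (k : G) * u * (k : G)⁻¹ * u⁻¹ ∈ centralizer (E : Set G) := by
    intro k hk
    have hw : ψ ⟨_, hcomm k⟩ = ψ ⟨u, hu⟩ := by
      refine Multiplicative.toAdd.injective (funext fun i => ?_)
      rw [hr.act k ⟨u, hu⟩ ⟨_, hcomm k⟩ rfl i]
      have hkf : (ρ k)⁻¹ f = f := by rw [Equiv.Perm.inv_eq_iff_eq, hk]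
      by_cases hi : i = f
      · rw [hi, hkf]
      · exact (hconst i _ hi fun h => hi ((ρ k)⁻¹.injective (h.trans hkf.symm)))
    have h1 : ψ (⟨_, hcomm k⟩ * ⟨u, hu⟩⁻¹) = 1 := by rw [map_mul, map_inv, hw, mul_inv_cancel]
    exact (hr.kerψ _).1 h1
  set K := ((centralizer ({z' * u} : Set G)).subgroupOf E).map ρ with hK
  have hnorm : ∀ g : Equiv.Perm (Fin m), g f = f → ∀ x ∈ K, g * x * g⁻¹ ∈ K := by
    rintro g hg _ ⟨y, hy, rfl⟩
    obtain ⟨k, rfl⟩ := hr.surj g
    refine ⟨k * y * k⁻¹, ?_, by simp only [map_mul, map_inv]⟩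
    have hki : ρ k⁻¹ f = f := by rw [map_inv, Equiv.Perm.inv_eq_iff_eq, hg]
    have hyz : (y : G) * (z' * u) = z' * u * y := mem_centralizer_singleton_iff.1 hy
    set d := (k : G)⁻¹ * u * k * u⁻¹ with hdd
    have hdC : (y : G) * d = d * y := by
      have h1 : d ∈ centralizer (E : Set G) := by simpa [hdd] using hd k⁻¹ hki
      exact mem_centralizer_iff.1 h1 y y.2
    have hdV : d ∈ vee p G := by
      refine vee_comm_le E (mul_mem ?_ (inv_mem hu))
      simpa using hcomm k⁻¹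
    have hconj : (k : G)⁻¹ * (z' * u) * k = d * (z' * u) := by
      have hdz : d * z' = z' * d := mem_centralizer_iff.1 (hVc hz'.1) d hdV
      calc (k : G)⁻¹ * (z' * u) * k = ((k : G)⁻¹ * z' * k) * ((k : G)⁻¹ * u * k) := by group
        _ = z' * (d * u) := by
          rw [show (k : G)⁻¹ * z' * k = z' by simpa using hfix k⁻¹, hdd, inv_mul_cancel_right]
        _ = d * (z' * u) := by rw [← mul_assoc, ← hdz, mul_assoc]
    refine mem_centralizer_singleton_iff.2 ?_
    show (k : G) * y * (k : G)⁻¹ * (z' * u) = z' * u * ((k : G) * y * (k : G)⁻¹)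
    calc (k : G) * y * (k : G)⁻¹ * (z' * u) = k * (y * ((k : G)⁻¹ * (z' * u) * k)) * (k : G)⁻¹ := by group
      _ = k * (d * (z' * u) * y) * (k : G)⁻¹ := by rw [hconj, ← mul_assoc (y : G), hdC, mul_assoc d, hyz]; group
      _ = k * ((k : G)⁻¹ * (z' * u) * k * y) * (k : G)⁻¹ := by rw [hconj]
      _ = _ := by group
  obtain ⟨a, ha⟩ := hm
  have hsw : Equiv.swap a (σ a) ∈ K := by
    obtain ⟨y, hy, -, hρ⟩ := hl.lift a ha
    refine ⟨y, ?_, hρ⟩
    exact mem_centralizer_singleton_iff.2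
      (mem_centralizer_iff.1 (Ctx.T_le_cent_omega (inf_le_left (b := centralizer _) hy)) _ hz).symm
  have hσa : σ a ≠ a := fun h => ha ((hl.fixed a).1 h)
  have hσf : σ a ≠ f := fun h => ha (σ.injective (h.trans ((hl.fixed f).2 rfl).symm))
  obtain ⟨k, hk, hke⟩ := fixing_mem hnorm hσa.symm ha hσf hsw he
  have h1 : (k : G)⁻¹ * e ∈ cee p G := by
    have h2 : ρ (k⁻¹ * e) = 1 := by rw [map_mul, map_inv, hke, inv_mul_cancel]
    simpa using (hr.ker _).1 h2
  have h3 : (k : G)⁻¹ * e * (z' * u) = z' * u * ((k : G)⁻¹ * e) := (mem_centralizer_iff.1 h1 _ hzV).symm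
  have h4 : (k : G) * (z' * u) = z' * u * k := mem_centralizer_singleton_iff.1 hk
  calc z' * u * (e : G) = (z' * u * k) * ((k : G)⁻¹ * e) := by group
    _ = (e : G) * (z' * u) := by rw [← h4, mul_assoc (k : G), ← h3]; group

/-- The clauses on `C*(G,T)` in the symmetric case. -/
theorem sym_star (hc : Ctx T M) {r : ℕ} {E : Fin r → Subgroup G} {n : ℕ} (h : SymCase T E n)
    (si : SymImages T E n) (co : Core T E) (hQ : cee p G = Cfsg.pCore p G) (Bk : Fin r → Subgroup G)
    (hB : Family T Bk) (hle : ∀ i, Bk i ≤ E i) : StarClauses T Bk := by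
  classical
  obtain rfl := h.two
  haveI := cee_normal (G := G) (p := 2)
  set m := 2 ^ n + 1 with hmdef
  have h2n : 0 < 2 ^ n := Nat.two_pow_pos n
  haveI : Nontrivial (Fin m) := Fin.nontrivial_iff_two_le.2 (by omega)
  obtain ⟨hsimp, hnp⟩ := alt_simple (m := m) h.pos_n hmdef
  choose ρ ψ hr using h.rep
  choose σ f hl using fun i => si.leaves i (ρ i) (ψ i) (hr i)
  have hTC : (T : Subgroup G) ≤ Cfsg.cStarOf 2 (T : Subgroup G) := le_sup_of_le_left Ctx.T_le_cent_omega
  have hEM : ∀ i, ¬ E i ≤ M := fun i hi => by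
    refine hc.hM.1 (top_le_iff.1 (h.top.ge.trans (sup_le (iSup_le fun j => ?_) hc.hTM)))
    obtain ⟨t, ht, htj⟩ := h.trans i j
    rw [← htj]
    rintro _ ⟨x, hx, rfl⟩
    exact M.mul_mem (M.mul_mem (hc.hTM ht) (hi hx)) (M.inv_mem (hc.hTM ht))
  have hfixC : ∀ i (e : ↥(E i)), ρ i e (f i) = f i → (e : G) ∈ Cfsg.cStarOf 2 (T : Subgroup G) := by
    intro i e he
    refine mem_sup_left (fix_centralizes hc (exists_ne (f i)) (hr i) (hl i) ?_ he)
    conv_lhs => rw [← h.dec]
    refine sup_le (le_sup_of_le_left (le_inf inf_le_left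
      (inf_le_right.trans (centralizer_le (SetLike.coe_subset_coe.2 (le_iSup E i)))))) (iSup_le fun j => ?_)
    by_cases hj : j = i
    · exact hj ▸ le_sup_right
    · exact le_sup_of_le_left (le_inf (vee_comm_le _) (commutator_eq_bot_iff_le_centralizer.1 (h.cross j i hj)))
  have hMfix : ∀ i (e : ↥(E i)), (e : G) ∈ M → ρ i e (f i) = f i := fun i e he => by
    by_contra hf
    exact hEM i (le_max_of_moves hc (hr i) (hl i) he hf)
  -- the image of a block
  let φ : ∀ i, ↥(Bk i) →* Equiv.Perm (Fin m) := fun i => (ρ i).comp (inclusion (hle i))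
  have hEn : ∀ i, E i ≤ normalizer (Bk i : Set G) := fun i => by
    refine (le_iSup E i).trans (co.L_sup.ge.trans (sup_le (hB.norm i) ?_))
    rw [hQ]
    exact (H51.pCore_normalizes_block T (hB.block i)).1
  have hker2 : ∀ i, IsPGroup 2 (φ i).ker := fun i => by
    intro x
    have hx : ((x : ↥(Bk i)) : G) ∈ cee 2 G := ((hr i).ker _).1 x.2
    rw [hQ] at hx
    obtain ⟨k, hk⟩ := Cfsg.Agent.H51.pCore_isPGroup 2 G ⟨_, hx⟩
    exact ⟨k, Subtype.ext (Subtype.ext (congrArg Subtype.val hk :))⟩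
  have hle_alt : ∀ i, (φ i).range ≤ alternatingGroup (Fin m) := fun i => by
    rintro _ ⟨⟨x, hx⟩, rfl⟩
    have hK : (Bk i) ≤ ((alternatingGroup (Fin m)).comap (φ i)).map (Bk i).subtype := by
      refine (H51.eq_closure_of_residual (hB.block i).1).le.trans ((closure_le _).2 ?_)
      rintro y ⟨hy, hcop⟩
      refine ⟨⟨y, hy⟩, ?_, rfl⟩
      show Equiv.Perm.sign (φ i ⟨y, hy⟩) = 1
      have h1 : Equiv.Perm.sign (φ i ⟨y, hy⟩) ^ orderOf y = 1 := by
        rw [← map_pow, ← map_pow, show (⟨y, hy⟩ : ↥(Bk i)) ^ orderOf y = 1 from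
          Subtype.ext (by simp [pow_orderOf_eq_one]), map_one, map_one]
      have h2 := pow_gcd_eq_one.2 ⟨h1, Int.units_sq (Equiv.Perm.sign (φ i ⟨y, hy⟩))⟩
      rwa [hcop.gcd_eq_one, pow_one] at h2
    obtain ⟨y, hy, hyx⟩ := hK hx
    rwa [show y = ⟨x, hx⟩ from Subtype.ext hyx] at hy
  have hrange : ∀ i, (φ i).range = alternatingGroup (Fin m) := fun i => by
    haveI := hsimp
    refine le_antisymm (hle_alt i) ?_
    have hn' : ((φ i).range.subgroupOf (alternatingGroup (Fin m))).Normal := by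
      refine ⟨fun x hx g => ?_⟩
      obtain ⟨b, hb⟩ := hx
      obtain ⟨e, he⟩ := (hr i).surj (g : Equiv.Perm (Fin m))
      have hbe : (e : G) * b * (e : G)⁻¹ ∈ Bk i := (mem_normalizer_iff.1 (hEn i e.2) b).1 b.2
      refine ⟨⟨_, hbe⟩, ?_⟩
      show ρ i (inclusion (hle i) ⟨_, hbe⟩) = _
      rw [show inclusion (hle i) ⟨_, hbe⟩ = e * inclusion (hle i) b * e⁻¹ from Subtype.ext rfl,
        map_mul, map_mul, map_inv, he]
      show _ * (φ i b) * _ = _
      rw [hb]
      rfl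
    rcases IsSimpleGroup.eq_bot_or_eq_top_of_normal _ hn' with hbot | htop
    · exfalso
      refine H51.block_not_isPGroup (hB.block i) ?_
      have : (φ i).ker = ⊤ := by
        refine eq_top_iff.2 fun x _ => ?_
        have h1 : (⟨φ i x, hle_alt i ⟨x, rfl⟩⟩ : ↥(alternatingGroup (Fin m))) ∈
            (φ i).range.subgroupOf (alternatingGroup (Fin m)) := ⟨x, rfl⟩
        rw [hbot, mem_bot] at h1
        exact congrArg Subtype.val h1
      have h1 := hker2 i
      rw [this] at h1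
      exact h1.of_equiv topEquiv
    · exact subgroupOf_eq_top.1 htop
  have hcore : ∀ i, Cfsg.pCore 2 ↥(Bk i) = (φ i).ker := fun i => by
    haveI := hsimp
    refine le_antisymm ?_ (Cfsg.Agent.H72.le_pCore inferInstance (hker2 i))
    let φ' : ↥(Bk i) →* ↥(alternatingGroup (Fin m)) := (φ i).codRestrict _ fun x => hle_alt i ⟨x, rfl⟩
    have hφ' : Function.Surjective φ' := fun g => by
      obtain ⟨x, hx⟩ := (hrange i).ge g.2
      exact ⟨x, Subtype.ext hx⟩
    haveI := Cfsg.Agent.H72.pCore_normal (G := ↥(Bk i)) 2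
    haveI hN : ((Cfsg.pCore 2 ↥(Bk i)).map φ').Normal := Normal.map inferInstance φ' hφ'
    have hp2 : IsPGroup 2 ↥((Cfsg.pCore 2 ↥(Bk i)).map φ') :=
      (Cfsg.Agent.H51.pCore_isPGroup 2 ↥(Bk i)).map φ'
    rcases IsSimpleGroup.eq_bot_or_eq_top_of_normal _ hN with hb | ht
    · rw [Subgroup.map_eq_bot_iff] at hb
      exact fun x hx => congrArg Subtype.val (show φ' x = 1 from hb hx)
    · rw [ht] at hp2
      exact absurd (hp2.of_equiv topEquiv) hnp
  have hiso : ∀ i, Nonempty (↥(Bk i) ⧸ Cfsg.pCore 2 ↥(Bk i) ≃* ↥(alternatingGroup (Fin m))) := fun i =>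
    ⟨((QuotientGroup.quotientMulEquivOfEq (hcore i)).trans (QuotientGroup.quotientKerEquivRange (φ i))).trans
      (MulEquiv.subgroupCongr (hrange i))⟩
  refine ⟨le_antisymm ?_ (iSup_le fun i => le_inf inf_le_left (inf_le_right.trans (le_iSup Bk i))),
    fun i => Or.inr (Or.inl ⟨rfl, 2 ^ (n - 1), ?_, ?_⟩), fun i k hk => ⟨n, ?_⟩, ?_⟩
  · -- intersection with the product
    have key : ∀ s : Finset (Fin r), ∀ x ∈ Cfsg.cStarOf 2 (T : Subgroup G), x ∈ (⨆ j ∈ s, Bk j) →
        x ∈ ⨆ i, (Cfsg.cStarOf 2 (T : Subgroup G) ⊓ Bk i) := by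
      intro s
      induction s using Finset.induction with
      | empty =>
        intro x _ hx
        simp only [Finset.notMem_empty, iSup_false, iSup_bot, mem_bot] at hx
        rw [hx]; exact one_mem _
      | insert a s ha ih =>
        intro x hxC hx
        rw [Finset.iSup_insert] at hx
        have hsc : (⨆ j ∈ s, Bk j) ≤ centralizer (Bk a : Set G) := iSup₂_le fun j hj =>
          commutator_eq_bot_iff_le_centralizer.1 (hB.comm j a (ne_of_mem_of_not_mem hj ha))
        rw [← SetLike.mem_coe, coe_mul_of_right_le_normalizer_left _ _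
          (hsc.trans (centralizer_le_normalizer _))] at hx
        obtain ⟨b, hb, c, hcs, rfl⟩ := hx
        have hcC' : c ∈ (⨆ j ∈ s, E j) :=
          (iSup₂_le fun j hj => (hle j).trans (le_iSup₂ (f := fun j (_ : j ∈ s) => E j) j hj)) hcs
        have hcomm : ⁅(⨆ j ∈ s, E j), E a⁆ ≤ cee 2 G := by
          rw [← QuotientGroup.ker_mk' (cee 2 G), ← Subgroup.map_eq_bot_iff, Subgroup.map_commutator,
            commutator_eq_bot_iff_le_centralizer]
          simp only [Subgroup.map_iSup]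
          refine iSup₂_le fun j hj => ?_
          rw [← commutator_eq_bot_iff_le_centralizer, ← Subgroup.map_commutator, Subgroup.map_eq_bot_iff,
            QuotientGroup.ker_mk']
          exact h.comm j a (ne_of_mem_of_not_mem hj ha)
        have hbC : b ∈ Cfsg.cStarOf 2 (T : Subgroup G) :=
          hfixC a ⟨b, hle a hb⟩ (proj_fix hc (hr a) (hl a) (hEM a) (h.cent_le a) ⟨b, hle a hb⟩
            (fun k hk => hcomm (commutator_mem_commutator hcC' hk)) (hc.cStar_le hxC))
        exact mul_mem (le_iSup (fun i => Cfsg.cStarOf 2 (T : Subgroup G) ⊓ Bk i) a ⟨hbC, hb⟩)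
          (ih c (by simpa using mul_mem (inv_mem hbC) hxC) hcs)
    intro x hx
    refine key Finset.univ x hx.1 ?_
    simpa using hx.2
  · rw [show 2 * 2 ^ (n - 1) = 2 ^ n by rw [← pow_succ', Nat.sub_add_cancel h.pos_n]]
    exact hiso i
  · rw [show 2 * 2 ^ (n - 1) = 2 ^ n by rw [← pow_succ', Nat.sub_add_cancel h.pos_n]]
    haveI := Cfsg.Agent.H72.pCore_normal (G := ↥(Bk i)) 2
    set K := (Cfsg.cStarOf 2 (T : Subgroup G) ⊓ Bk i).subgroupOf (Bk i) with hKdef
    let χ : ↥(Bk i) ⧸ Cfsg.pCore 2 ↥(Bk i) →* Equiv.Perm (Fin m) :=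
      QuotientGroup.lift _ (φ i) (hcore i).le
    have hχ : Function.Injective χ := by
      refine (injective_iff_map_eq_one χ).2 fun x => ?_
      induction x using QuotientGroup.induction_on with
      | H b => exact fun hb => (QuotientGroup.eq_one_iff b).2 ((hcore i).ge hb)
    have hKmap : (K.map (QuotientGroup.mk' (Cfsg.pCore 2 ↥(Bk i)))).map χ = K.map (φ i) := by
      rw [Subgroup.map_map]; rfl
    obtain ⟨e₂⟩ := stab_alt_equiv (k := 2 ^ n) rfl (f i) (R := K.map (φ i)) (fun π => by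
      constructor
      · rintro ⟨b, hb, rfl⟩
        exact ⟨hle_alt i ⟨b, rfl⟩, hMfix i _ (hc.cStar_le hb.1)⟩
      · rintro ⟨hs, hf⟩
        obtain ⟨b, rfl⟩ := (hrange i).ge (show π ∈ alternatingGroup (Fin m) from hs)
        exact ⟨b, ⟨hfixC i (inclusion (hle i) b) hf, b.2⟩, rfl⟩)
    exact ⟨((equivMapOfInjective _ χ hχ).trans (MulEquiv.subgroupCongr hKmap)).trans e₂⟩
  · obtain ⟨e⟩ := hk
    obtain ⟨e₁⟩ := hiso i
    exact alt_degree h.pos_n hmdef (e₁.symm.trans e)
  · -- supplement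
    refine le_antisymm (fun x hx => ?_) (sup_le inf_le_left hTC)
    have hTN : (T : Subgroup G) ≤ normalizer ((⨆ i, Bk i : Subgroup G) : Set G) := fun t ht => by
      refine H74.mem_normalizer_of_conj_mem fun y hy => ?_
      have h1 : (⨆ i, Bk i).map (MulAut.conj t).toMonoidHom ≤ ⨆ i, Bk i := by
        rw [Subgroup.map_iSup]
        refine iSup_le fun i => ?_
        obtain ⟨j, hj⟩ := hB.perm t ht i
        exact hj.le.trans (le_iSup Bk j)
      exact h1 ⟨y, hy, rfl⟩
    have hx' : x ∈ (⨆ i, Bk i) ⊔ (T : Subgroup G) := hB.gen.ge (mem_top x)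
    rw [← SetLike.mem_coe, coe_mul_of_right_le_normalizer_left _ _ hTN] at hx'
    obtain ⟨a, ha, t, ht, rfl⟩ := hx'
    refine mul_mem (mem_sup_left ⟨?_, ha⟩) (mem_sup_right ht)
    simpa using mul_mem hx (inv_mem (hTC ht))

end Cfsg.Agent.H54.Push
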